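import Groth.Agent.UnirLib.Rational
import Groth.Agent.BorelLib.Facts
import Groth.Agent.BorelLib.TorScheme
import Groth.Agent.SemiAbLib.Torus
import Groth.Agent.HopfPointsLib.Scheme
import Groth.Agent.DynLib.Open
import Groth.Agent.DynLib.Smooth
import Groth.Agent.S3305
import Groth.Agent.S3307
import Mathlib.RingTheory.KrullDimension.NonZeroDivisors
import Mathlib.RingTheory.Bialgebra.MonoidAlgebra

/-!
Connected affine groups over an algebraically closed field are rational varieties: big cell induction.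
-/

set_option autoImplicit false
set_option linter.style.haveILetI false
set_option backward.isDefEq.respectTransparency false
set_option maxHeartbeats 1000000

noncomputable section

universe u

open CategoryTheory CategoryTheory.Limits MonoidalCategory CartesianMonoidalCategory AlgebraicGeometry WithConv
open LaurentPolynomial
open scoped MonObj TensorProduct
open Groth.Agent
open CoactBr (sp)

attribute [-instance] CategoryTheory.Hom.commGroup

namespace Unir

variable {k : Type u} [Field k]

section Dyn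

variable {A : Type u} [CommRing A] [HopfAlgebra k A]

theorem exists_negParam (lam : A →ₐc[k] k[T;T⁻¹]) :
    ∃ lamNeg : A →ₐc[k] k[T;T⁻¹], (lamNeg : A →ₐ[k] k[T;T⁻¹]) = Dyn.negParam k A lam := by
  let neg : k[T;T⁻¹] →ₐc[k] k[T;T⁻¹] := AddMonoidAlgebra.mapDomainBialgHom k (-AddMonoidHom.id ℤ)
  refine ⟨neg.comp lam, AlgHom.ext fun a => ?_⟩
  show neg (lam a) = LaurentPolynomial.invert (lam a)
  induction lam a using LaurentPolynomial.induction_on' with
  | add p q hp hq => rw [map_add, map_add, hp, hq]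
  | C_mul_T n r =>
    rw [map_mul (LaurentPolynomial.invert (R := k)), LaurentPolynomial.invert_C, LaurentPolynomial.invert_T,
      ← LaurentPolynomial.single_eq_C_mul_T, ← LaurentPolynomial.single_eq_C_mul_T]
    exact AddMonoidAlgebra.mapDomainBialgHom_single _ _ _

/-- A one-parameter subgroup both of whose limit groups are everything is central. -/
theorem central_of_idealP_eq_bot {lam lamNeg : A →ₐc[k] k[T;T⁻¹]}
    (hneg : (lamNeg : A →ₐ[k] k[T;T⁻¹]) = Dyn.negParam k A lam) (h : DynLib.idealP lam = ⊥)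
    (h' : DynLib.idealP lamNeg = ⊥) {R : Type u} [CommRing R] [Algebra k R] (t : Rˣ) (g : WithConv (A →ₐ[k] R)) :
    DynLib.conjAt lam t g = g := by
  have hz : ∀ (l : A →ₐc[k] k[T;T⁻¹]), DynLib.idealP l = ⊥ → ∀ a, ∀ n < (0 : ℤ), g.ofConv (DynLib.coef l n a) = 0 := by
    intro l hl
    exact (DynLib.limExists_iff_coef l g.ofConv).1 ((DynLib.represents_idealP l R g.ofConv).1 fun a ha => by
      rw [hl, Ideal.mem_bot] at ha
      rw [ha, map_zero])
  have hne : ∀ a (n : ℤ), n ≠ 0 → ((DynLib.orbit R lam g).ofConv a).coeff n = 0 := by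
    intro a n hn
    rw [← toConv_ofConv g, DynLib.orbit_coeff]
    rcases lt_or_gt_of_ne hn with hn' | hn'
    · exact hz lam h a n hn'
    · rw [← neg_neg n, ← DynLib.orbit_neg_coeff hneg g.ofConv (-n) a]
      exact hz lamNeg h' a (-n) (by omega)
  have he : ∀ a, (DynLib.orbit R lam g).ofConv a =
      AddMonoidAlgebra.single 0 (((DynLib.orbit R lam g).ofConv a).coeff 0) := fun a => by
    refine AddMonoidAlgebra.ext (Finsupp.ext fun n => ?_)
    rw [AddMonoidAlgebra.coeff_single, Finsupp.single_apply]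
    split_ifs with hn
    · rw [hn]
    · exact hne a n (Ne.symm hn)
  have hev : ∀ s : Rˣ, DynLib.push (DynLib.ev (AlgHom.id k R) s) (DynLib.orbit R lam g) =
      DynLib.push (DynLib.ev (AlgHom.id k R) 1) (DynLib.orbit R lam g) := fun s => by
    refine WithConv.ext (AlgHom.ext fun a => ?_)
    show DynLib.ev _ s ((DynLib.orbit R lam g).ofConv a) = DynLib.ev _ 1 ((DynLib.orbit R lam g).ofConv a)
    rw [he a, DynLib.ev_single, DynLib.ev_single, zpow_zero, zpow_zero]
  have h1 := hev t
  rw [DynLib.ev_orbit, DynLib.ev_orbit, DynLib.conjAt_one] at h1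
  exact h1

/-- A one-parameter subgroup with trivial values has no proper limit group. -/
theorem idealP_eq_bot_of_trivial {lam : A →ₐc[k] k[T;T⁻¹]}
    (h : ∀ {R : Type u} [CommRing R] [Algebra k R] (t : Rˣ), DynLib.lamAt lam t = (1 : WithConv (A →ₐ[k] R))) :
    DynLib.idealP lam = ⊥ := by
  refine (Submodule.eq_bot_iff _).2 fun a ha => ?_
  refine (DynLib.represents_idealP lam A (AlgHom.id k A)).2 ?_ a ha
  refine (DynLib.limExists_iff lam _).2 ⟨DynLib.push (DynLib.constP k A) (toConv (AlgHom.id k A)), ?_⟩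
  show _ = DynLib.conjAt lam (DynLib.unitT A) _
  rw [DynLib.conjAt_apply, h, _root_.one_mul, inv_one, _root_.mul_one, DynLib.push_push]
  rw [show (DynLib.toL k A).comp (DynLib.constP k A) = IsScalarTower.toAlgHom k A A[T;T⁻¹] from
    AlgHom.ext fun r => Polynomial.toLaurent_C r]

/-- If every point contracts to the identity, the subgroup is trivial. -/
theorem lamAt_eq_one_of_idealU_eq_bot {lam : A →ₐc[k] k[T;T⁻¹]} (h : DynLib.idealU lam = ⊥)
    {R : Type u} [CommRing R] [Algebra k R] (t : Rˣ) : DynLib.lamAt lam t = (1 : WithConv (A →ₐ[k] R)) := by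
  obtain ⟨g, hg⟩ : ∃ g, g = DynLib.lamAt (R' := R) lam t := ⟨_, rfl⟩
  obtain ⟨p, hp, hp0⟩ := (DynLib.limIsOne_iff lam g.ofConv).1 ((DynLib.represents_idealU lam R g.ofConv).1
    fun a ha => by
      rw [h, Ideal.mem_bot] at ha
      rw [ha, map_zero])
  rw [toConv_ofConv] at hp
  have hι : (DynLib.toL k R).comp (DynLib.constP k R) = IsScalarTower.toAlgHom k R R[T;T⁻¹] :=
    AlgHom.ext fun r => Polynomial.toLaurent_C r
  have ho : DynLib.orbit R lam g = DynLib.push (IsScalarTower.toAlgHom k R R[T;T⁻¹]) g := by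
    show DynLib.conjAt lam (DynLib.unitT R) _ = _
    rw [hg, DynLib.push_lamAt, DynLib.conjAt_apply, ← DynLib.lamAt_mul, ← DynLib.lamAt_inv, ← DynLib.lamAt_mul,
      mul_comm (DynLib.unitT R), mul_inv_cancel_right]
  have hpc : p = DynLib.push (DynLib.constP k R) g := by
    apply DynLib.push_injective (DynLib.toL_injective (k := k))
    rw [hp, ho, DynLib.push_push, hι]
  have hC : (DynLib.ev0 k R).comp (DynLib.constP k R) = AlgHom.id k R := AlgHom.ext fun r => by
    show Polynomial.aeval (0 : R) (algebraMap R (Polynomial R) r) = r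
    simp
  rw [hpc, DynLib.push_push, hC] at hp0
  rw [← hg]
  exact hp0

theorem idealU_ne_bot {lam lamNeg : A →ₐc[k] k[T;T⁻¹]}
    (hneg : (lamNeg : A →ₐ[k] k[T;T⁻¹]) = Dyn.negParam k A lam) (h : DynLib.idealP lam ≠ ⊥) :
    DynLib.idealU lamNeg ≠ ⊥ := fun hu => h (idealP_eq_bot_of_trivial fun {R} _ _ t => by
  rw [← inv_inv t, ← DynLib.lamAt_neg hneg]
  exact lamAt_eq_one_of_idealU_eq_bot hu _)

/-- The dimension drops in a proper quotient of a domain. -/
theorem ringKrullDim_quotient_lt [IsDomain A] {J : Ideal A} (hJ : J ≠ ⊥) {n : ℕ}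
    (h : ringKrullDim A < ((n + 1 : ℕ) : WithBot ℕ∞)) : ringKrullDim (A ⧸ J) < (n : WithBot ℕ∞) := by
  obtain ⟨r, hr, hr0⟩ := Submodule.exists_mem_ne_zero_of_ne_bot hJ
  have h2 : ringKrullDim (A ⧸ J) ≤ ringKrullDim (A ⧸ Ideal.span {r}) :=
    ringKrullDim_le_of_surjective (Ideal.Quotient.factor ((Ideal.span_singleton_le_iff_mem J).2 hr))
      (Ideal.Quotient.factor_surjective _)
  have h3 : ringKrullDim (A ⧸ Ideal.span {r}) + 1 < ((n + 1 : ℕ) : WithBot ℕ∞) :=
    (ringKrullDim_quotient_succ_le_of_nonZeroDivisor (mem_nonZeroDivisors_of_ne_zero hr0)).trans_lt h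
  refine h2.trans_lt ?_
  rw [Nat.cast_add, Nat.cast_one] at h3
  exact lt_of_add_lt_add_right h3

end Dyn

variable [IsAlgClosed k]

local notation "PT" => 𝟙_ (Over (Spec (CommRingCat.of k)))

attribute [local instance] BorelLib.pTop BorelLib.pTopTensor

section Cochar

/-- The coordinate cocharacters of a split torus. -/
theorem exists_proj (r : ℕ) (i : Fin r) :
    ∃ q : MonoidAlgebra k (Multiplicative (Fin r → ℤ)) →ₐc[k] k[T;T⁻¹],
      ∀ g, q (MonoidAlgebra.single g 1) = T (Multiplicative.toAdd g i) := by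
  let F : Multiplicative (Fin r → ℤ) →* k[T;T⁻¹] :=
    { toFun := fun g => T (Multiplicative.toAdd g i)
      map_one' := T_zero
      map_mul' := fun a b => T_add _ _ }
  have hF : ∀ g, MonoidAlgebra.lift k k[T;T⁻¹] _ F (MonoidAlgebra.single g 1) = F g := fun g => by
    rw [MonoidAlgebra.lift_single, one_smul]
  refine ⟨BialgHom.ofAlgHom (MonoidAlgebra.lift k k[T;T⁻¹] _ F) ?_ ?_, fun g => hF g⟩
  · refine MonoidAlgebra.algHom_ext (fun g => ?_) (Subsingleton.elim _ _)
    rw [AlgHom.comp_apply, hF, Bialgebra.counitAlgHom_apply, Bialgebra.counitAlgHom_apply,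
      MonoidAlgebra.counit_single, show F g = AddMonoidAlgebra.single (Multiplicative.toAdd g i) 1 from rfl]
    exact AddMonoidAlgebra.counit_single _ _
  · refine MonoidAlgebra.algHom_ext (fun g => ?_) (Subsingleton.elim _ _)
    rw [AlgHom.comp_apply, AlgHom.comp_apply, hF, Bialgebra.comulAlgHom_apply, Bialgebra.comulAlgHom_apply,
      MonoidAlgebra.comul_single]
    simp only [CommSemiring.comul_apply, TensorProduct.map_tmul, MonoidAlgebra.lsingle_apply,
      Algebra.TensorProduct.map_tmul, hF]
    rw [show F g = AddMonoidAlgebra.single (Multiplicative.toAdd g i) 1 from rfl, AddMonoidAlgebra.comul_single]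
    simp only [CommSemiring.comul_apply, TensorProduct.map_tmul, AddMonoidAlgebra.lsingle_apply]

variable {A : Type u} [CommRing A] [HopfAlgebra k A]

/-- The image of a torus is central if all one-parameter subgroups are. -/
theorem central_of_cochar (hc : ∀ (lam : A →ₐc[k] k[T;T⁻¹]) (t : kˣ) (g : WithConv (A →ₐ[k] k)),
      DynLib.conjAt lam t g = g)
    (r : ℕ) (f : A →ₐc[k] MonoidAlgebra k (Multiplicative (Fin r → ℤ)))
    (q : MonoidAlgebra k (Multiplicative (Fin r → ℤ)) →ₐ[k] k) (g : WithConv (A →ₐ[k] k)) :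
    toConv (q.comp (f : A →ₐ[k] MonoidAlgebra k (Multiplicative (Fin r → ℤ)))) * g =
      g * toConv (q.comp (f : A →ₐ[k] MonoidAlgebra k (Multiplicative (Fin r → ℤ)))) := by
  classical
  have hmul : ∀ χ χ' : Multiplicative (Fin r → ℤ) →* k, toConv (MonoidAlgebra.lift k k _ (χ * χ')) =
      toConv (MonoidAlgebra.lift k k _ χ) * toConv (MonoidAlgebra.lift k k _ χ') := by
    intro χ χ'
    apply WithConv.ext
    refine MonoidAlgebra.algHom_ext (fun x => ?_) (Subsingleton.elim _ _)
    show _ = (toConv (MonoidAlgebra.lift k k _ χ) * toConv (MonoidAlgebra.lift k k _ χ')) (MonoidAlgebra.single x 1)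
    rw [AlgHom.convMul_apply, MonoidAlgebra.comul_single]
    simp [CommSemiring.comul_apply, MonoidAlgebra.lift_single]
  let Φ : (Multiplicative (Fin r → ℤ) →* kˣ) →* WithConv (A →ₐ[k] k) := MonoidHom.mk'
    (fun χ => toConv ((MonoidAlgebra.lift k k _ ((Units.coeHom k).comp χ)).comp
      (f : A →ₐ[k] MonoidAlgebra k (Multiplicative (Fin r → ℤ))))) (fun χ χ' => by
    apply WithConv.ext
    rw [show (Units.coeHom k).comp (χ * χ') = (Units.coeHom k).comp χ * (Units.coeHom k).comp χ' from rfl]
    show (toConv (MonoidAlgebra.lift k k _ _)).ofConv.comp _ = _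
    rw [hmul, AlgHom.convMul_comp_bialgHom_distrib])
  obtain ⟨χ, hχ⟩ : ∃ χ : Multiplicative (Fin r → ℤ) →* kˣ, Φ χ = toConv (q.comp
      (f : A →ₐ[k] MonoidAlgebra k (Multiplicative (Fin r → ℤ)))) := by
    refine ⟨((q : MonoidAlgebra k _ →* k).comp (MonoidAlgebra.of k _)).toHomUnits, ?_⟩
    show toConv _ = _
    congr 2
    refine MonoidAlgebra.algHom_ext (fun x => ?_) (Subsingleton.elim _ _)
    rw [MonoidAlgebra.lift_single, one_smul]
    rfl
  have hi : ∀ (i : Fin r) (t : kˣ), Φ ((zpowersHom kˣ t).comp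
      (AddMonoidHom.toMultiplicative (Pi.evalAddMonoidHom (fun _ : Fin r => ℤ) i))) ∈
      Subgroup.center (WithConv (A →ₐ[k] k)) := by
    intro i t
    obtain ⟨p, hp⟩ := exists_proj (k := k) r i
    rw [Subgroup.mem_center_iff]
    intro g
    have h := hc (p.comp f) t g
    rw [DynLib.conjAt_apply, mul_inv_eq_iff_eq_mul] at h
    have e : DynLib.lamAt (p.comp f) t = Φ ((zpowersHom kˣ t).comp
        (AddMonoidHom.toMultiplicative (Pi.evalAddMonoidHom (fun _ : Fin r => ℤ) i))) := by
      show toConv _ = toConv _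
      rw [show ((p.comp f : A →ₐc[k] k[T;T⁻¹]) : A →ₐ[k] k[T;T⁻¹]) =
        (p : _ →ₐ[k] k[T;T⁻¹]).comp (f : A →ₐ[k] MonoidAlgebra k (Multiplicative (Fin r → ℤ))) from rfl,
        ← AlgHom.comp_assoc]
      congr 2
      refine MonoidAlgebra.algHom_ext (fun x => ?_) (Subsingleton.elim _ _)
      show DynLib.ev (Algebra.ofId k k) t (p (MonoidAlgebra.single x 1)) = _
      rw [hp, DynLib.ev_T, MonoidAlgebra.lift_single, one_smul]
      rfl
    rw [← e]
    exact h.symm
  have hsum : χ = ∏ i, (zpowersHom kˣ (χ (Multiplicative.ofAdd (Pi.single i 1)))).comp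
      (AddMonoidHom.toMultiplicative (Pi.evalAddMonoidHom (fun _ : Fin r => ℤ) i)) := by
    refine MonoidHom.ext fun x => ?_
    rw [MonoidHom.finset_prod_apply]
    have hx : Multiplicative.toAdd x = ∑ i, Multiplicative.toAdd x i • Pi.single i (1 : ℤ) := by
      refine funext fun j => ?_
      simp [Finset.sum_apply, Pi.single_apply]
    conv_lhs => rw [← ofAdd_toAdd x, hx, ofAdd_sum, map_prod]
    refine Finset.prod_congr rfl fun i _ => ?_
    rw [ofAdd_zsmul, map_zpow]
    rfl
  have hmem : χ ∈ (Subgroup.center (WithConv (A →ₐ[k] k))).comap Φ := by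
    rw [hsum]
    exact Subgroup.prod_mem _ fun i _ => hi i _
  rw [← hχ]
  exact (Subgroup.mem_center_iff.1 hmem g).symm

end Cochar

/-- Solvable points if every one-parameter subgroup is central. -/
theorem exists_derivedSeries_eq_bot (A : Type u) [CommRing A] [HopfAlgebra k A] [Algebra.FiniteType k A]
    [Smooth (sp k A).hom] [ConnectedSpace ↥(sp k A).left]
    (hc : ∀ (lam : A →ₐc[k] k[T;T⁻¹]) (t : kˣ) (g : WithConv (A →ₐ[k] k)), DynLib.conjAt lam t g = g) :
    ∃ n, derivedSeries (PT ⟶ sp k A) n = ⊥ := by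
  let v : sp k A ≅ sp k A := Iso.refl _
  haveI : IsMonHom v.hom := inferInstanceAs (IsMonHom (𝟙 (sp k A)))
  haveI : IsAffine (sp k A).left := inferInstanceAs (IsAffine (Spec (CommRingCat.of A)))
  have hconn := BorelLib.isPreconnected_univ_of_connected v
  obtain ⟨S, hS, -⟩ := BorelLib.exists_isMaxTor (k := k) (A := A) (K := ⊤) (by rw [Subgroup.coe_top]; exact isClosed_univ)
    (by rwa [Subgroup.coe_top])
  obtain ⟨T', _, iT, hi, -, -, hT, _, hpts⟩ := BorelLib.exists_torus_sub v hS.tor
  haveI := hi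
  obtain ⟨r, w, hw, -⟩ := SemiAbLib.exists_laurent_iso hT
  haveI := hw
  obtain ⟨φ, hφ⟩ := DiagRep.exists_pt (w.hom ≫ iT)
  haveI : IsMonHom (CoactBr.pt φ) := hφ ▸ inferInstance
  obtain ⟨f, hf⟩ := HopfPoints.exists_bialgHom φ
  have hcS : ∀ s ∈ S, ∀ g : BorelLib.Pt k A, s * g = g * s := by
    intro s hs g
    rw [← hpts, BorelLib.mem_ptsSub] at hs
    obtain ⟨b, hb⟩ := hs
    obtain ⟨u₀, q, hq⟩ := HopfPoints.exists_point_comp w b
    have hT1 : IsTerminal (sp k k) := by
      haveI : IsIso (sp k k).hom := by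
        change IsIso (Spec.map (CommRingCat.ofHom (algebraMap k k)))
        rw [show CommRingCat.ofHom (algebraMap k k) = 𝟙 _ from rfl]
        infer_instance
      exact Over.mkIdTerminal.ofIso (Over.isoMk (asIso (sp k k).hom)).symm
    have e : s = toConv (q.comp φ) := by
      apply (BorelLib.ptEquiv v).injective
      rw [← hb, hq]
      show _ = BorelLib.toRPt v _
      rw [BorelLib.toRPt, CoactBr.pt_comp, ← hφ, hT1.hom_ext u₀ HopfPoints.exists_unit_hom.some]
      simp [v, Category.assoc]
    rw [e, ← hf]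
    exact central_of_cochar hc r f q g
  obtain ⟨n, hn⟩ := BorelLib.exists_lcs_eq_bot hconn hS hcS
  exact ⟨n, le_bot_iff.1 ((Subgroup.derived_le_lower_central n).trans
    ((ClassBound.lcs_congr (BorelLib.ptEquiv v) n).1 hn).le)⟩

omit [IsAlgClosed k] in
theorem smooth_sp (B : Type u) [CommRing B] [Algebra k B] [Algebra.Smooth k B] : Smooth (sp k B).hom := by
  change Smooth (Spec.map (CommRingCat.ofHom (algebraMap k B)))
  rw [HasRingHomProperty.Spec_iff (P := @Smooth), CommRingCat.hom_ofHom, RingHom.smooth_algebraMap]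
  infer_instance

theorem Rat.tensor_sp {B C : Type u} [CommRing B] [Algebra k B] [CommRing C] [Algebra k C] (hB : Rat (sp k B))
    (hC : Rat (sp k C)) {Y : Over (Spec (CommRingCat.of k))} (L : sp k (B ⊗[k] C) ⟶ Y) [IsOpenImmersion L.left] :
    Rat Y := by
  let τ : sp k (B ⊗[k] C) ⟶ sp k B ⊗ sp k C :=
    lift (CoactBr.pt (Algebra.TensorProduct.includeLeft (R := k) (S := k) (A := B) (B := C)))
      (CoactBr.pt (Algebra.TensorProduct.includeRight (R := k) (A := B) (B := C)))
  haveI hτ : IsIso ((Over.forget _).map τ) := by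
    have : τ.left = (pullbackSpecIso k B C).inv := by
      refine pullback.hom_ext ?_ ?_
      · exact (congrArg Over.Hom.left (lift_fst (CoactBr.pt (Algebra.TensorProduct.includeLeft (R := k) (S := k) (A := B) (B := C))) (CoactBr.pt (Algebra.TensorProduct.includeRight (R := k) (A := B) (B := C))))).trans (pullbackSpecIso_inv_fst k B C).symm
      · exact (congrArg Over.Hom.left (lift_snd (CoactBr.pt (Algebra.TensorProduct.includeLeft (R := k) (S := k) (A := B) (B := C))) (CoactBr.pt (Algebra.TensorProduct.includeRight (R := k) (A := B) (B := C))))).trans (pullbackSpecIso_inv_snd k B C).symm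
    show IsIso τ.left
    rw [this]; infer_instance
  haveI : IsIso τ := isIso_of_reflects_iso τ (Over.forget _)
  haveI : IsIso (inv τ).left := (Over.forget _).map_isIso (inv τ)
  haveI : IsOpenImmersion (inv τ ≫ L).left := by rw [Over.comp_left]; infer_instance
  exact (hB.tensor hC).map (inv τ ≫ L)

/-- Induction on the dimension. -/
theorem rat_main (n : ℕ) : ∀ (A : Type u) [CommRing A] [HopfAlgebra k A] [Algebra.Smooth k A],
    (∀ e : A, IsIdempotentElem e → e = 0 ∨ e = 1) → ringKrullDim A < (n : WithBot ℕ∞) → Rat (sp k A) := by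
  induction n with
  | zero =>
    intro A _ _ _ _ hn
    haveI : Nontrivial A := (Bialgebra.counitAlgHom k A).toRingHom.domain_nontrivial
    exact absurd hn (not_lt.2 (by simpa using ringKrullDim_nonneg_of_nontrivial (R := A)))
  | succ n ih =>
    intro A _ _ _ hA hn
    haveI : Algebra.FiniteType k A := inferInstance
    haveI : Nontrivial A := (Bialgebra.counitAlgHom k A).toRingHom.domain_nontrivial
    haveI hcs : ConnectedSpace ↥(sp k A).left := by
      haveI : PreconnectedSpace (PrimeSpectrum A) := by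
        refine preconnectedSpace_iff_clopen.2 fun s hs => ?_
        obtain ⟨x, hx, rfl⟩ := PrimeSpectrum.isClopen_iff.1 hs
        rcases hA x hx with rfl | rfl
        · left; simp
        · right; simp
      exact (⟨inferInstance⟩ : ConnectedSpace (PrimeSpectrum A))
    haveI : Smooth (sp k A).hom := smooth_sp A
    haveI := AlbLib.geometricallyIntegral_grp (sp k A)
    haveI : IsIntegral (sp k A).left := GeometricallyIntegral.isIntegral_of_subsingleton (sp k A).hom
    haveI : IsDomain A := (affine_isIntegral_iff (CommRingCat.of A)).mp ‹IsIntegral (sp k A).left›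
    by_cases hlam : ∃ lam : A →ₐc[k] k[T;T⁻¹], DynLib.idealP lam ≠ ⊥
    · obtain ⟨lam, hlam⟩ := hlam
      obtain ⟨lamNeg, hneg⟩ := exists_negParam lam
      haveI := DynLib.isHopfIdeal_idealP lam
      haveI := DynLib.isHopfIdeal_idealU lamNeg
      haveI := DynLib.isHopfIdeal_idealP lamNeg
      haveI := DynLib.isHopfIdeal_idealU lam
      haveI hsP := DynLib.smooth_quotient_limExists lam (DynLib.idealP lam) (DynLib.represents_idealP lam)
      haveI hsU := DynLib.smooth_quotient_limIsOne lamNeg (DynLib.idealU lamNeg) (DynLib.represents_idealU lamNeg)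
      have hP : Rat (sp k (A ⧸ DynLib.idealP lam)) := ih _
        ((Groth.Agent.S3307.result k A lam (DynLib.idealP lam) (DynLib.idealU lam) (DynLib.represents_idealP lam)
          (DynLib.represents_idealU lam)).2 hA) (ringKrullDim_quotient_lt hlam hn)
      have hU : Rat (sp k (A ⧸ DynLib.idealU lamNeg)) := ih _
        (Groth.Agent.S3307.result k A lamNeg (DynLib.idealP lamNeg) (DynLib.idealU lamNeg)
          (DynLib.represents_idealP lamNeg) (DynLib.represents_idealU lamNeg)).1
        (ringKrullDim_quotient_lt (idealU_ne_bot hneg hlam) hn)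
      have hoi := Groth.Agent.S3305.result k A lam lamNeg hneg (DynLib.idealP lam) (DynLib.idealU lamNeg)
        (DynLib.represents_idealP lam) (DynLib.represents_idealU lamNeg)
      let L := CoactBr.pt ((Algebra.TensorProduct.map (Ideal.Quotient.mkₐ k (DynLib.idealU lamNeg))
        (Ideal.Quotient.mkₐ k (DynLib.idealP lam))).comp (Bialgebra.comulAlgHom k A))
      haveI : IsOpenImmersion L.left := hoi
      exact Rat.tensor_sp hU hP L
    · push Not at hlam
      obtain ⟨m, hm⟩ := exists_derivedSeries_eq_bot A fun (lam : A →ₐc[k] k[T;T⁻¹]) t g => by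
        obtain ⟨lamNeg, hneg⟩ := exists_negParam lam
        exact central_of_idealP_eq_bot hneg (hlam lam) (hlam lamNeg) t g
      haveI : IsAffine (sp k A).left := inferInstanceAs (IsAffine (Spec (CommRingCat.of A)))
      exact rat_solvable m (sp k A) hm

/-- A connected affine group is rational. -/
theorem rat_grp (G : Over (Spec (CommRingCat.of k))) [GrpObj G] [IsAffine G.left] [Smooth G.hom]
    [ConnectedSpace ↥G.left] : Rat G := by
  obtain ⟨A, _, _, v, _, hft, -⟩ := BorelLib.exists_setup G
  haveI := hft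
  haveI : IsIso v.hom.left := (Over.forget _).map_isIso v.hom
  haveI : IsIso v.inv.left := (Over.forget _).map_isIso v.inv
  have hsm : Smooth (sp k A).hom := by rw [← Over.w v.hom]; infer_instance
  haveI : Algebra.Smooth k A := by
    change Smooth (Spec.map (CommRingCat.ofHom (algebraMap k A))) at hsm
    rwa [HasRingHomProperty.Spec_iff (P := @Smooth), CommRingCat.hom_ofHom, RingHom.smooth_algebraMap] at hsm
  haveI := hsm
  haveI : ConnectedSpace ↥(sp k A).left :=
    (Scheme.homeoOfIso (asIso v.inv.left)).surjective.connectedSpace (Scheme.homeoOfIso (asIso v.inv.left)).continuous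
  haveI := AlbLib.geometricallyIntegral_grp (sp k A)
  haveI : IsIntegral (sp k A).left := GeometricallyIntegral.isIntegral_of_subsingleton (sp k A).hom
  haveI : IsDomain A := (affine_isIntegral_iff (CommRingCat.of A)).mp ‹IsIntegral (sp k A).left›
  obtain ⟨n, hn⟩ : ∃ n : ℕ, ringKrullDim A < (n : WithBot ℕ∞) := by
    obtain ⟨m, φ, hφ⟩ := Algebra.FiniteType.iff_quotient_mvPolynomial''.1 hft
    refine ⟨m + 1, (ringKrullDim_le_of_surjective φ.toRingHom hφ).trans_lt ?_⟩
    rw [MvPolynomial.ringKrullDim_of_isNoetherianRing, ringKrullDim_eq_zero_of_field, zero_add]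
    simp only [Nat.card_fin]
    exact_mod_cast Nat.lt_succ_self m
  exact (rat_main n A (fun e he => IsIdempotentElem.iff_eq_zero_or_one.1 he) hn).map v.hom

end Unir
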