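import Groth.Agent.UnirLib.H1
import Groth.Agent.SemiAbLib.QuotTriv
import Groth.Agent.AxisTrivLib.Shape
import Mathlib.AlgebraicGeometry.SpreadingOut
import Mathlib.AlgebraicGeometry.Morphisms.FlatDescent

/-!
Galois cohomology of commutative affine groups, and generic sections of torsors.
-/

set_option autoImplicit false
set_option linter.style.haveILetI false
set_option backward.isDefEq.respectTransparency false
set_option maxHeartbeats 1000000

noncomputable section

universe u

open CategoryTheory CategoryTheory.Limits MonoidalCategory CartesianMonoidalCategory MonObj AlgebraicGeometry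
open CoactBr WittGrp
open Groth.Agent

attribute [-instance] CategoryTheory.Hom.commGroup

namespace Unir

variable {k : Type u} [Field k]

local notation "SK" => Spec (CommRingCat.of k)

section AlgClosed

variable [IsAlgClosed k]

/-- The points of a connected commutative affine group have no first Galois cohomology. -/
theorem h1Zero_comm (G : Over SK) [GrpObj G] [IsCommMonObj G] [Smooth G.hom]
    [ConnectedSpace ↥G.left] [IsAffine G.left] : H1Zero G := by
  haveI : Fact (Nat.Prime 2) := ⟨Nat.prime_two⟩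
  induction hd : topologicalKrullDim G.left using WellFoundedLT.induction generalizing G with
  | ind d ih =>
    rcases AxisTriv.exists_quot_ga 2 G with hT | ⟨Q, _, _, i, q, hi, hq, hqs, hqf, hker, hQs, hQc, hQa, hlt⟩
    · obtain ⟨r, v, hv, hv'⟩ := SemiAbLib.exists_laurent_iso hT
      haveI : IsMonHom v.symm.hom := hv'
      exact (h1Zero_laurent r).of_iso v.symm
    haveI := hi; haveI := hq; haveI := hqs; haveI := hqf; haveI := hQs; haveI := hQc; haveI := hQa
    obtain ⟨e, he, -⟩ := Groth.Agent.S12181.result 2 SK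
    haveI := he
    haveI : QuasiCompact G.hom := inferInstance
    haveI : Smooth q.left := SemiAbLib.smooth_of_kernel i q hker
    exact (h1Zero_ga.of_iso e).ext (ih _ (hd ▸ hlt) Q rfl) i q hker

end AlgClosed

/-- Associativity of an action on points. -/
theorem act_mul {S : Scheme.{u}} {G X : Over S} [GrpObj G] (a : AlgGrp.Action G X) {T : Over S}
    (g h : T ⟶ G) (x : T ⟶ X) : lift (g * h) x ≫ a.act = lift g (lift h x ≫ a.act) ≫ a.act := by
  have e1 : lift (g * h) x = lift (lift g h) x ≫ μ[G] ▷ X := by rw [lift_whiskerRight, Hom.mul_def]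
  rw [e1, Category.assoc, a.mul_act, lift_lift_associator_hom_assoc, ← Category.assoc, lift_whiskerLeft]

/-- The difference of two points of a torsor. -/
theorem free_of_isIso {S : Scheme.{u}} {G X : Over S} [GrpObj G] (a : G ⊗ X ⟶ X) (h : IsIso (lift a (snd G X)))
    {T : Over S} (x y : T ⟶ X) : ∃! b : T ⟶ G, lift b x ≫ a = y := by
  refine ⟨lift y x ≫ inv (lift a (snd G X)) ≫ fst G X, ?_, fun b hb => ?_⟩
  · have e : lift (lift y x ≫ inv (lift a (snd G X)) ≫ fst G X) x = lift y x ≫ inv (lift a (snd G X)) := by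
      have h2 : inv (lift a (snd G X)) ≫ snd G X = snd X X := by
        rw [IsIso.inv_comp_eq, lift_snd]
      refine CartesianMonoidalCategory.hom_ext _ _ ?_ ?_
      · simp
      · rw [lift_snd, Category.assoc, h2, lift_snd]
    have h3 : inv (lift a (snd G X)) ≫ a = fst X X := by rw [IsIso.inv_comp_eq, lift_fst]
    show lift _ x ≫ a = y
    rw [e, Category.assoc, h3, lift_fst]
  · have e : lift b x ≫ lift a (snd G X) = lift y x := by rw [comp_lift, hb, lift_snd]
    rw [← e, Category.assoc, ← Category.assoc (lift a (snd G X)), IsIso.hom_inv_id, Category.id_comp, lift_fst]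

section Generic

variable {X Y : Scheme.{u}} [IsIntegral Y] (qY : Y ⟶ (Spec (CommRingCat.of k))) (π : X ⟶ Y)

/-- The field of functions as an extension of the base. -/
abbrev genAlg : Algebra k (Y.presheaf.stalk (genericPoint Y)) :=
  (Spec.preimage (Y.fromSpecStalk (genericPoint Y) ≫ qY)).hom.toAlgebra

/-- The generic point over the base. -/
def genPt : letI := genAlg qY; sp k (Y.presheaf.stalk (genericPoint Y)) ⟶ Over.mk qY :=
  letI := genAlg qY
  Over.homMk (Y.fromSpecStalk (genericPoint Y))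
    (Spec.map_preimage (Y.fromSpecStalk (genericPoint Y) ≫ qY)).symm

theorem exists_section_of_generic [LocallyOfFiniteType π] (t : Spec (Y.presheaf.stalk (genericPoint Y)) ⟶ X)
    (ht : t ≫ π = Y.fromSpecStalk (genericPoint Y)) :
    ∃ U : Y.Opens, (U : Set ↥Y).Nonempty ∧ ∃ s : (↑U : Scheme.{u}) ⟶ X, s ≫ π = U.ι := by
  obtain ⟨U, hU, f, -, hf⟩ := spread_out_of_isGermInjective' (𝟙 Y) π t (by rw [ht, Category.comp_id])
  exact ⟨U, ⟨_, hU⟩, f, by rw [hf, Category.comp_id]⟩

variable {B : Over (Spec (CommRingCat.of k))} [GrpObj B]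

/-- A torsor over an integral scheme has a section over a non-empty open. -/
theorem exists_section_of_torsor (hB : H1Zero B) [Smooth π] [Surjective π]
    (act : B ⊗ Over.mk (π ≫ qY) ⟶ Over.mk (π ≫ qY))
    (hmul : ∀ (T : Over SK) (a b : T ⟶ B) (x : T ⟶ Over.mk (π ≫ qY)),
      lift (a * b) x ≫ act = lift a (lift b x ≫ act) ≫ act)
    (hq : ∀ (T : Over SK) (b : T ⟶ B) (x : T ⟶ Over.mk (π ≫ qY)),
      (lift b x ≫ act).left ≫ π = x.left ≫ π)
    (hfree : ∀ (T : Over SK) (x y : T ⟶ Over.mk (π ≫ qY)), x.left ≫ π = y.left ≫ π →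
      ∃! b : T ⟶ B, lift b x ≫ act = y) :
    ∃ U : Y.Opens, (U : Set ↥Y).Nonempty ∧ ∃ s : (↑U : Scheme.{u}) ⟶ X, s ≫ π = U.ι := by
  letI := genAlg qY
  let q : Over.mk (π ≫ qY) ⟶ Over.mk qY := Over.homMk π rfl
  haveI : Smooth q.left := inferInstanceAs (Smooth π)
  have hne : Nonempty (pullback q.left (genPt qY).left : Scheme.{u}) := by
    let c := IsLocalRing.closedPoint (Y.presheaf.stalk (genericPoint Y))
    obtain ⟨w, hw⟩ := π.surjective ((genPt qY).left c)
    exact ⟨(Scheme.Pullback.exists_preimage_pullback (f := q.left) (g := (genPt qY).left) w c hw).choose⟩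
  obtain ⟨y, hy⟩ := exists_point hB act q hmul
    (fun T b x => Over.OverMorphism.ext ((Category.assoc _ _ _).symm.trans (hq T b x)))
    (fun T x y h => hfree T x y (congrArg CommaMorphism.left h)) (genPt qY) hne
  exact exists_section_of_generic π y.left (congrArg CommaMorphism.left hy)

end Generic

section Principal

variable {L : Over (Spec (CommRingCat.of k))} [GrpObj L] {X Y : Scheme.{u}} (qY : Y ⟶ (Spec (CommRingCat.of k))) (π : X ⟶ Y)

/-- A point over the base, read as a point over `Y`. -/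
def bcPt {T : Over SK} (t : T.left ⟶ Y) (ht : t ≫ qY = T.hom) (b : T ⟶ L) : Over.mk t ⟶ Red.bc qY L :=
  Over.homMk (pullback.lift b.left t (by rw [Over.w b]; exact ht.symm)) (pullback.lift_snd _ _ _)

theorem bcPt_mul {T : Over SK} (t : T.left ⟶ Y) (ht : t ≫ qY = T.hom) (b b' : T ⟶ L) :
    bcPt qY t ht (b * b') = bcPt qY t ht b * bcPt qY t ht b' := by
  let u : Over.mk t ⟶ (Over.pullback qY).obj T :=
    Over.homMk (pullback.lift (𝟙 T.left) t ((Category.id_comp _).trans ht.symm)) (pullback.lift_snd _ _ _)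
  have key : ∀ c : T ⟶ L, bcPt qY t ht c = u ≫ (Over.pullback qY).map c := fun c => Over.OverMorphism.ext (by
    apply pullback.hom_ext
    · simp [bcPt, u]
      exact (Category.id_comp _).symm
    · simp [bcPt, u])
  rw [key, key, key, ← MonObj.comp_mul]
  exact congrArg (u ≫ ·) (map_mul ((Over.pullback qY).homMonoidHom) b b')

theorem bcPt_comp {T T' : Over SK} (g : T' ⟶ T) (t : T.left ⟶ Y) (ht : t ≫ qY = T.hom) (t' : T'.left ⟶ Y)
    (ht' : t' ≫ qY = T'.hom) (hg : g.left ≫ t = t') (b : T ⟶ L) :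
    (Over.homMk g.left hg : Over.mk t' ⟶ Over.mk t) ≫ bcPt qY t ht b = bcPt qY t' ht' (g ≫ b) :=
  Over.OverMorphism.ext (by apply pullback.hom_ext <;> simp [bcPt, hg])

variable (a : AlgGrp.Action (Red.bc qY L) (Over.mk π))

theorem hom_eq {T : Over SK} (x : T ⟶ Over.mk (π ≫ qY)) : (x.left ≫ π) ≫ qY = T.hom :=
  (Category.assoc _ _ _).trans (Over.w x)

/-- The action over the base. -/
def kAct : L ⊗ Over.mk (π ≫ qY) ⟶ Over.mk (π ≫ qY) :=
  Over.homMk (lift (bcPt qY _ (hom_eq qY π (snd L (Over.mk (π ≫ qY)))) (fst L (Over.mk (π ≫ qY))))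
    (Over.homMk (snd L (Over.mk (π ≫ qY))).left rfl :
      Over.mk ((snd L (Over.mk (π ≫ qY))).left ≫ π) ⟶ Over.mk π) ≫ a.act).left
    (by
      show _ ≫ π ≫ qY = _
      rw [← Category.assoc, show _ ≫ π = (snd L (Over.mk (π ≫ qY))).left ≫ π from Over.w (_ ≫ a.act)]
      exact hom_eq qY π _)

theorem kAct_pt {T : Over SK} (b : T ⟶ L) (x : T ⟶ Over.mk (π ≫ qY)) :
    (lift b x ≫ kAct qY π a).left =
      (lift (bcPt qY _ (hom_eq qY π x) b) (Over.homMk x.left rfl : Over.mk (x.left ≫ π) ⟶ Over.mk π) ≫ a.act).left := by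
  have hg : (lift b x).left ≫ (snd L (Over.mk (π ≫ qY))).left ≫ π = x.left ≫ π := by
    rw [← Category.assoc, ← Over.comp_left, lift_snd]
  let g : Over.mk (x.left ≫ π) ⟶ Over.mk ((snd L (Over.mk (π ≫ qY))).left ≫ π) := Over.homMk (lift b x).left hg
  have e2 : g ≫ (Over.homMk (snd L (Over.mk (π ≫ qY))).left rfl :
      Over.mk ((snd L (Over.mk (π ≫ qY))).left ≫ π) ⟶ Over.mk π) =
        (Over.homMk x.left rfl : Over.mk (x.left ≫ π) ⟶ Over.mk π) :=
    Over.OverMorphism.ext (congrArg (fun f : T ⟶ Over.mk (π ≫ qY) => f.left) (lift_snd b x) :)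
  have e1 : g ≫ bcPt qY _ (hom_eq qY π (snd L (Over.mk (π ≫ qY)))) (fst L _) = bcPt qY _ (hom_eq qY π x) b := by
    rw [bcPt_comp qY (lift b x) _ _ _ (hom_eq qY π x) hg, lift_fst]
  rw [← e1, ← e2, ← comp_lift, Category.assoc]
  rfl

theorem kAct_over {T : Over SK} (b : T ⟶ L) (x : T ⟶ Over.mk (π ≫ qY)) :
    (lift b x ≫ kAct qY π a).left ≫ π = x.left ≫ π := by
  rw [kAct_pt]
  exact Over.w (_ ≫ a.act)

theorem kAct_mul {T : Over SK} (b b' : T ⟶ L) (x : T ⟶ Over.mk (π ≫ qY)) :
    lift (b * b') x ≫ kAct qY π a = lift b (lift b' x ≫ kAct qY π a) ≫ kAct qY π a := by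
  refine Over.OverMorphism.ext ?_
  have gen : ∀ (x' : T ⟶ Over.mk (π ≫ qY)) (z : Over.mk (x.left ≫ π) ⟶ Over.mk π) (hz : x'.left = z.left),
      (lift b x' ≫ kAct qY π a).left = (lift (bcPt qY _ (hom_eq qY π x) b) z ≫ a.act).left := by
    intro x' z hz
    have ht : x'.left ≫ π = x.left ≫ π := by rw [hz]; exact Over.w z
    rw [kAct_pt]
    have main : ∀ (t : T.left ⟶ Y) (h : t ≫ qY = T.hom) (w : Over.mk t ⟶ Over.mk π), t = x.left ≫ π → w.left = z.left →
        (lift (bcPt qY t h b) w ≫ a.act).left = (lift (bcPt qY _ (hom_eq qY π x) b) z ≫ a.act).left := by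
      rintro t h w rfl hw
      rw [Over.OverMorphism.ext hw]
    exact main _ _ _ ht hz
  rw [gen _ _ (kAct_pt qY π a b' x), kAct_pt, bcPt_mul, act_mul]

theorem kAct_free (htors : IsIso (lift a.act (snd (Red.bc qY L) (Over.mk π)))) {T : Over SK}
    (x y : T ⟶ Over.mk (π ≫ qY)) (h : x.left ≫ π = y.left ≫ π) : ∃! b : T ⟶ L, lift b x ≫ kAct qY π a = y := by
  obtain ⟨β, hβ, hβu⟩ := free_of_isIso a.act htors (Over.homMk x.left rfl : Over.mk (x.left ≫ π) ⟶ Over.mk π)
    (Over.homMk y.left h.symm)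
  have hβw : β.left ≫ pullback.snd L.hom qY = x.left ≫ π := Over.w β
  let b : T ⟶ L := Over.homMk (β.left ≫ pullback.fst L.hom qY) (by
    rw [Category.assoc, pullback.condition, ← Category.assoc, hβw, hom_eq])
  have hb : bcPt qY _ (hom_eq qY π x) b = β := Over.OverMorphism.ext (by
    apply pullback.hom_ext
    · simp [bcPt, b]
    · simp [bcPt, hβw])
  refine ⟨b, Over.OverMorphism.ext ?_, fun c hc => ?_⟩
  · rw [kAct_pt, hb]
    exact congrArg CommaMorphism.left hβ
  · have := hβu (bcPt qY _ (hom_eq qY π x) c) (Over.OverMorphism.ext (by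
      rw [← kAct_pt]; exact congrArg CommaMorphism.left hc))
    rw [← hb] at this
    refine Over.OverMorphism.ext ?_
    have h1 := congrArg (fun f => f.left ≫ pullback.fst L.hom qY) this
    simpa [bcPt] using h1

/-- A principal bundle is smooth. -/
theorem smooth_principal [Smooth L.hom] [Flat π] [Surjective π] [QuasiCompact π]
    (htors : IsIso (lift a.act (snd (Red.bc qY L) (Over.mk π)))) : Smooth π := by
  haveI : Smooth (Red.bc qY L).hom := MorphismProperty.pullback_snd (P := @Smooth) L.hom qY ‹_›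
  haveI : Smooth (snd (Red.bc qY L) (Over.mk π)).left :=
    MorphismProperty.pullback_snd (P := @Smooth) (Red.bc qY L).hom (Over.mk π).hom ‹_›
  haveI : IsIso (lift a.act (snd (Red.bc qY L) (Over.mk π))).left :=
    (Over.forget Y).map_isIso (lift a.act (snd (Red.bc qY L) (Over.mk π)))
  have hf : Smooth (pullback.snd π π) := by
    have e : (pullback.snd π π : _) = inv (lift a.act (snd (Red.bc qY L) (Over.mk π))).left ≫
        (snd (Red.bc qY L) (Over.mk π)).left := by
      rw [IsIso.eq_inv_comp]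
      exact congrArg CommaMorphism.left (lift_snd a.act (snd (Red.bc qY L) (Over.mk π)))
    rw [e]
    infer_instance
  exact MorphismProperty.of_pullback_snd_of_descendsAlong (P := @Smooth)
    (Q := @Surjective ⊓ @Flat ⊓ @QuasiCompact) ⟨⟨‹Surjective π›, ‹Flat π›⟩, ‹QuasiCompact π›⟩ hf

end Principal

end Unir
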