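import Groth.Agent.UnirLib.Solvable
import Groth.Agent.SquareLib.PicOpenAffineSpace
import Groth.Agent.PicRelBCLib.Basic
import Groth.Agent.AVRigidLib.Core

/-!
Invertible modules on normal varieties are invariant under groups covered by open subsets of affine space.
-/

set_option autoImplicit false
set_option linter.style.haveILetI false
set_option backward.isDefEq.respectTransparency false
set_option maxHeartbeats 1000000

noncomputable section

universe u

open CategoryTheory CategoryTheory.Limits MonoidalCategory CartesianMonoidalCategory MonObj AlgebraicGeometry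
open TopologicalSpace WittGrp
open Groth.Agent
open AVAmpleLib (pt)

attribute [-instance] CategoryTheory.Hom.commGroup

namespace Unir

variable {k : Type u} [Field k] [IsAlgClosed k]

local notation "SK" => Spec (CommRingCat.of k)
local notation "PT" => 𝟙_ (Over (Spec (CommRingCat.of k)))

/-- A dense constructible set contains a non-empty open set. -/
theorem exists_open_subset_of_dense {X : Type u} [TopologicalSpace X] [IrreducibleSpace X] {s : Set X}
    (hs : Topology.IsConstructible s) (hd : Dense s) :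
    ∃ U : Set X, IsOpen U ∧ U.Nonempty ∧ U ⊆ s := by
  have key : (∃ U : Set X, IsOpen U ∧ U.Nonempty ∧ U ⊆ s) ∨ ∃ U : Set X, IsOpen U ∧ U.Nonempty ∧ U ⊆ sᶜ := by
    clear hd
    induction hs using Topology.IsConstructible.empty_union_induction with
    | open_retrocompact U hU hUc =>
      rcases U.eq_empty_or_nonempty with h | h
      · right; exact ⟨Set.univ, isOpen_univ, Set.univ_nonempty, by rw [h]; simp⟩
      · left; exact ⟨U, hU, h, subset_rfl⟩
    | union s hs t ht ihs iht =>
      rcases ihs with ⟨U, hU, hne, hsub⟩ | ⟨U, hU, hne, hsub⟩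
      · left; exact ⟨U, hU, hne, hsub.trans Set.subset_union_left⟩
      · rcases iht with ⟨V, hV, hVne, hVsub⟩ | ⟨V, hV, hVne, hVsub⟩
        · left; exact ⟨V, hV, hVne, hVsub.trans Set.subset_union_right⟩
        · right
          refine ⟨U ∩ V, hU.inter hV, nonempty_preirreducible_inter hU hV hne hVne, ?_⟩
          rw [Set.compl_union]
          exact Set.inter_subset_inter hsub hVsub
    | compl s hs ih =>
      rcases ih with h | h
      · right; simpa using h
      · left; exact h
  rcases key with h | ⟨U, hU, hne, hsub⟩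
  · exact h
  · obtain ⟨y, hy1, hy2⟩ := dense_iff_inter_open.1 hd U hU hne
    exact absurd hy2 (hsub hy1)

variable {G X : Over (Spec (CommRingCat.of k))} [GrpObj G] (a : AlgGrp.Action G X)

/-- Translation by a rational point. -/
abbrev trl (g : 𝟙_ (Over (Spec (CommRingCat.of k))) ⟶ G) : X ⟶ X := lift (toUnit X ≫ g) (𝟙 X) ≫ a.act

omit [IsAlgClosed k] in
theorem comp_trl {T : Over SK} (x : T ⟶ X) (g : PT ⟶ G) : x ≫ trl a g = lift (toUnit T ≫ g) x ≫ a.act := by
  rw [trl, ← Category.assoc, comp_lift, Category.comp_id, ← Category.assoc, toUnit_unique (x ≫ toUnit X) (toUnit T)]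

omit [IsAlgClosed k] in
theorem trl_mul (g h : PT ⟶ G) : trl a (g * h) = trl a h ≫ trl a g := by
  rw [comp_trl, trl, MonObj.comp_mul, act_mul]

omit [IsAlgClosed k] in
theorem trl_one : trl a 1 = 𝟙 X := by
  have h : lift (toUnit X ≫ (1 : PT ⟶ G)) (𝟙 X) = (λ_ X).inv ≫ η[G] ▷ X := by
    refine CartesianMonoidalCategory.hom_ext _ _ ?_ ?_
    · simp [Hom.one_def]
    · simp
  rw [trl, h, Category.assoc, a.one_act, Iso.inv_hom_id]

omit [IsAlgClosed k] in
theorem isIso_trl (g : PT ⟶ G) : IsIso (trl a g) :=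
  ⟨trl a g⁻¹, by rw [← trl_mul, inv_mul_cancel, trl_one], by rw [← trl_mul, mul_inv_cancel, trl_one]⟩

variable [IsIntegral X.left] [LocallyOfFiniteType X.hom] [QuasiCompact X.hom]

/-- The classes of the translates by points of a group covered by an open of affine space are equal. -/
theorem pullCl_trl (hX : Pi1.IsNormalScheme X.left) {B : Over (Spec (CommRingCat.of k))} [GrpObj B] [Smooth B.hom]
    [QuasiCompact B.hom] [IrreducibleSpace ↥B.left] (hB : Uni B) (b : B ⟶ G) [IsMonHom b]
    {c : PicF.Cl X.left} (hc : PicF.IsInvertibleCl c) (g : 𝟙_ (Over (Spec (CommRingCat.of k))) ⟶ B) :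
    PicF.pullCl (trl a (g ≫ b)).left c = c := by
  haveI : Fact (Nat.Prime 2) := ⟨Nat.prime_two⟩
  obtain ⟨n, V, j, φ, hj, hVne, hφ⟩ := hB
  haveI := hj; haveI := hφ
  haveI : LocallyOfFiniteType V.hom := by rw [← Over.w j]; infer_instance
  haveI : IsLocallyNoetherian X.left := LocallyOfFiniteType.isLocallyNoetherian X.hom
  haveI : CompactSpace X.left := QuasiCompact.compactSpace_of_compactSpace X.hom
  haveI : IsNoetherian X.left := ⟨⟩
  let U : (𝔸(ULift.{u} (Fin n); SK)).Opens := j.left.opensRange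
  let e : V.left ≅ U.toScheme := j.left.isoOpensRange
  have he : e.inv ≫ V.hom = U.ι ≫ (𝔸(ULift.{u} (Fin n); SK) ↘ SK) := by
    rw [← Over.w j, ← Category.assoc, Scheme.Hom.isoOpensRange_inv_comp]
    rfl
  have he' : ∀ v : PT ⟶ V, (v.left ≫ e.hom) ≫ U.ι ≫ (𝔸(ULift.{u} (Fin n); SK) ↘ SK) =
      𝟙 (Spec (CommRingCat.of k)) := fun v => by
    rw [← he, Category.assoc, Iso.hom_inv_id_assoc, Over.w v]
    rfl
  obtain ⟨v₀, -⟩ := exists_pt_mem (X := V) isClosed_univ.isLocallyClosed Set.univ_nonempty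
  let q := U.ι ≫ (𝔸(ULift.{u} (Fin n); SK) ↘ SK)
  let P : Over SK := Over.mk (pullback.fst X.hom q ≫ X.hom)
  let πX : P ⟶ X := Over.homMk (pullback.fst X.hom q) rfl
  let πV : P ⟶ V := Over.homMk (pullback.snd X.hom q ≫ e.inv) (by
    show (pullback.snd X.hom q ≫ e.inv) ≫ V.hom = pullback.fst X.hom q ≫ X.hom
    rw [Category.assoc, he]
    exact pullback.condition.symm)
  let σ : P ⟶ X := lift (πV ≫ φ ≫ b) πX ≫ a.act
  obtain ⟨c₀, ⟨-, hc₀⟩, -⟩ := SquareLib.pullCl_bijective U X.hom (v₀.left ≫ e.hom) (he' v₀) hX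
    (PicF.pullCl σ.left c) (PicRelBCLib.isInvertibleCl_pullCl σ.left hc)
  have key : ∀ v : PT ⟶ V, PicF.pullCl (trl a (v ≫ φ ≫ b)).left c = c₀ := by
    intro v
    let s : X ⟶ P := Over.homMk (pullback.lift (𝟙 X.left) (X.hom ≫ v.left ≫ e.hom)
      (by rw [Category.id_comp, Category.assoc, he', Category.comp_id])) (by
      show pullback.lift _ _ _ ≫ pullback.fst X.hom q ≫ X.hom = X.hom
      rw [pullback.lift_fst_assoc, Category.id_comp])
    have hsX : s ≫ πX = 𝟙 X := Over.OverMorphism.ext (by simp [s, πX])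
    have hsV : s ≫ πV = toUnit X ≫ v := Over.OverMorphism.ext (by
      simp only [s, πV, Over.comp_left, Over.homMk_left, Over.toUnit_left, pullback.lift_snd_assoc, Category.assoc]
      simp)
    have h1 : trl a (v ≫ φ ≫ b) = s ≫ σ := by
      simp only [σ, trl, ← Category.assoc, comp_lift]
      rw [hsX, hsV]
    rw [h1, Over.comp_left, ← PicRelBCLib.pullCl_pullCl, ← hc₀, PicRelBCLib.pullCl_pullCl]
    have h2 : s.left ≫ pullback.fst X.hom q = 𝟙 X.left := pullback.lift_fst _ _ _
    rw [h2, PicRelBCLib.pullCl_id]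
  haveI : IsLocallyNoetherian B.left := LocallyOfFiniteType.isLocallyNoetherian B.hom
  haveI : CompactSpace B.left := QuasiCompact.compactSpace_of_compactSpace B.hom
  haveI : IsNoetherian B.left := ⟨⟩
  haveI : LocallyOfFiniteType φ.left := by
    haveI : LocallyOfFiniteType (φ.left ≫ B.hom) := by rw [Over.w]; infer_instance
    exact locallyOfFiniteType_of_comp φ.left B.hom
  haveI : IsNoetherian V.left := by
    haveI : IsLocallyNoetherian V.left := LocallyOfFiniteType.isLocallyNoetherian V.hom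
    haveI : IsLocallyNoetherian (𝔸(ULift.{u} (Fin n); SK)) :=
      LocallyOfFiniteType.isLocallyNoetherian (𝔸(ULift.{u} (Fin n); SK) ↘ SK)
    haveI : CompactSpace ↥(𝔸(ULift.{u} (Fin n); SK)) :=
      QuasiCompact.compactSpace_of_compactSpace (𝔸(ULift.{u} (Fin n); SK) ↘ SK)
    haveI : IsNoetherian (𝔸(ULift.{u} (Fin n); SK)) := ⟨⟩
    haveI : CompactSpace U.toScheme := isCompact_iff_compactSpace.1 (NoetherianSpace.isCompact _)
    haveI : CompactSpace V.left := e.inv.surjective.compactSpace e.inv.continuous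
    exact ⟨⟩
  haveI : LocallyOfFinitePresentation φ.left := inferInstance
  haveI : IsSeparated B.hom := GrpField.isSeparated_grp (G := B)
  -- the image contains a non-empty open
  obtain ⟨O, hO, hOne, hOsub⟩ : ∃ O : Set B.left, IsOpen O ∧ O.Nonempty ∧ O ⊆ Set.range φ.left := by
    have hcons : Topology.IsConstructible (Set.range φ.left) := by
      have := (φ.left.isConstructible_image (Topology.IsConstructible.univ (X := V.left)))
      rwa [Set.image_univ] at this
    have hd : Dense (Set.range φ.left) := φ.left.denseRange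
    exact exists_open_subset_of_dense hcons hd
  have hlift : ∀ g₁ : PT ⟶ B, pt g₁ ∈ O → ∃ v : PT ⟶ V, v ≫ φ = g₁ := by
    intro g₁ hg
    obtain ⟨v, hv⟩ := exists_pt_mem (X := V) (Z := φ.left ⁻¹' {pt g₁})
      (((AVRigidLib.isClosed_pt g₁)).preimage φ.left.continuous).isLocallyClosed (hOsub hg)
    exact ⟨v, AVRigidLib.ext_pt hv⟩
  -- the point is a quotient of two points of that open
  let τ : B ⟶ B := (toUnit B ≫ g) * 𝟙 B
  have hτ : ∀ x : PT ⟶ B, x ≫ τ = g * x := fun x => by
    simp only [τ, MonObj.comp_mul, Category.comp_id, toUnit_comp_pt]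
  haveI : IsIso τ := by
    refine ⟨(toUnit B ≫ g⁻¹) * 𝟙 B, ?_, ?_⟩
    · rw [MonObj.comp_mul, Category.comp_id, ← Category.assoc, toUnit_unique (τ ≫ toUnit B) (toUnit B),
        ← _root_.mul_assoc, ← MonObj.comp_mul, inv_mul_cancel, MonObj.comp_one, _root_.one_mul]
    · simp only [τ]
      rw [MonObj.comp_mul, Category.comp_id, ← Category.assoc, toUnit_unique (_ ≫ toUnit B) (toUnit B),
        ← _root_.mul_assoc, ← MonObj.comp_mul, mul_inv_cancel, MonObj.comp_one, _root_.one_mul]
  haveI : IsIso τ.left := (Over.forget SK).map_isIso τ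
  obtain ⟨g₂, hg₂, hg₂'⟩ := exists_pt_mem (X := B) (Z := O ∩ τ.left ⁻¹' O)
    ((hO.inter (hO.preimage τ.left.continuous)).isLocallyClosed)
    (nonempty_preirreducible_inter hO (hO.preimage τ.left.continuous) hOne (hOne.preimage τ.left.surjective))
  have hg₁ : pt (g * g₂) ∈ O := by rw [← hτ, pt_comp]; exact hg₂'
  obtain ⟨v₁, hv₁⟩ := hlift _ hg₁
  obtain ⟨v₂, hv₂⟩ := hlift _ hg₂
  have h := (key v₁).trans (key v₂).symm
  rw [← Category.assoc, ← Category.assoc, hv₁, hv₂, MonObj.mul_comp, trl_mul, Over.comp_left,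
    ← PicRelBCLib.pullCl_pullCl] at h
  haveI := isIso_trl a (g₂ ≫ b)
  haveI : IsIso (trl a (g₂ ≫ b)).left := (Over.forget SK).map_isIso (trl a (g₂ ≫ b))
  have h' := congrArg (PicF.pullCl (inv (trl a (g₂ ≫ b)).left)) h
  have hinj : ∀ d, PicF.pullCl (inv (trl a (g₂ ≫ b)).left) (PicF.pullCl (trl a (g₂ ≫ b)).left d) = d := fun d => by
    rw [PicRelBCLib.pullCl_pullCl, IsIso.inv_hom_id, PicRelBCLib.pullCl_id]
  rwa [hinj, hinj] at h'

end Unir
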