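import Groth.Agent.ChevThmLib.SepPoint
import Groth.Agent.GaGmKerLib.GaPts
import Groth.Agent.DiagRepLib.Scheme
import Mathlib.RepresentationTheory.Homological.GroupCohomology.Hilbert90
import Mathlib.RingTheory.Trace.Basic
import Mathlib.FieldTheory.Normal.Closure
import Groth.Prelude.Def_AlgGrp
import Groth.Prelude.Def_GmPts

/-!
Vanishing of first Galois cohomology for points of `Ga`, `Gm`, tori and their extensions; points of torsors.
-/

set_option autoImplicit false
set_option linter.style.haveILetI false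
set_option backward.isDefEq.respectTransparency false
set_option maxHeartbeats 1000000

noncomputable section

universe u

open CategoryTheory CategoryTheory.Limits MonoidalCategory CartesianMonoidalCategory MonObj AlgebraicGeometry
open CoactBr
open Groth.Agent

attribute [-instance] CategoryTheory.Hom.commGroup

namespace Unir

variable {K : Type u} [Field K]

local notation "SK" => Spec (CommRingCat.of K)

section Gal

variable (K) {L E : Type u} [Field L] [Field E] [Algebra K L] [Algebra K E] [Algebra L E] [IsScalarTower K L E]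

/-- An automorphism of `E` over `L` on the spectrum of `E`. -/
def gal (σ : E ≃ₐ[L] E) : sp K E ⟶ sp K E := pt (σ.toAlgHom.restrictScalars K)

theorem gal_mul (σ τ : E ≃ₐ[L] E) : gal K (σ * τ) = gal K σ ≫ gal K τ := by
  rw [gal, gal, gal, ← pt_comp]
  rfl

theorem gal_one : gal K (1 : E ≃ₐ[L] E) = 𝟙 (sp K E) := by
  rw [gal, ← pt_id]
  rfl

theorem gal_left (σ : E ≃ₐ[L] E) : (gal K σ).left = Spec.map (CommRingCat.ofHom (σ : E →+* E)) := rfl

/-- The projection to the spectrum of `L`. -/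
def proj (L E : Type u) [Field L] [Field E] [Algebra K L] [Algebra K E] [Algebra L E] [IsScalarTower K L E] :
    sp K E ⟶ sp K L := pt (IsScalarTower.toAlgHom K L E)

theorem gal_proj (σ : E ≃ₐ[L] E) : gal K σ ≫ proj K L E = proj K L E := by
  rw [gal, proj, ← pt_comp]
  exact congrArg pt (AlgHom.ext fun x => σ.commutes x)

theorem proj_cancel {X : Over SK} (a b : sp K L ⟶ X) (h : proj K L E ≫ a = proj K L E ≫ b) : a = b :=
  Over.OverMorphism.ext (ChevThmLib.cancel_field (algebraMap L E) a.left b.left (congrArg CommaMorphism.left h))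

theorem exists_descend [IsGalois L E] {X : Over SK} (r : sp K E ⟶ X) (h : ∀ σ : E ≃ₐ[L] E, gal K σ ≫ r = r) :
    ∃ r₀ : sp K L ⟶ X, proj K L E ≫ r₀ = r := by
  obtain ⟨r₀, hr⟩ := ChevThmLib.exists_descend (K := L) r.left fun σ => congrArg CommaMorphism.left (h σ)
  refine ⟨Over.homMk r₀ (ChevThmLib.cancel_field (algebraMap L E) _ _ ?_), Over.OverMorphism.ext hr⟩
  rw [← Category.assoc, hr]
  exact (Over.w r).trans (Over.w (proj K L E)).symm

end Gal

/-- The first Galois cohomology of the points of `B` vanishes, for every Galois extension over `K`. -/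
def H1Zero (B : Over SK) [GrpObj B] : Prop :=
  ∀ (L E : Type u) [Field L] [Field E] [Algebra K L] [Algebra K E] [Algebra L E] [IsScalarTower K L E]
    [FiniteDimensional L E] [IsGalois L E] (b : (E ≃ₐ[L] E) → (sp K E ⟶ B)),
    (∀ σ τ, b (σ * τ) = (gal K σ ≫ b τ) * b σ) → ∃ c : sp K E ⟶ B, ∀ σ, (gal K σ ≫ c) * b σ = c

theorem H1Zero.of_iso {B C : Over SK} [GrpObj B] [GrpObj C] (hC : H1Zero C) (e : B ≅ C) [IsMonHom e.hom] :
    H1Zero B := by
  intro L E _ _ _ _ _ _ _ _ b hb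
  obtain ⟨c, hc⟩ := hC L E (fun σ => b σ ≫ e.hom) fun σ τ => by rw [hb, MonObj.mul_comp, Category.assoc]
  refine ⟨c ≫ e.inv, fun σ => ?_⟩
  rw [← cancel_mono e.hom, MonObj.mul_comp]
  simp [hc]

theorem h1Zero_of_isTrivial {B : Over SK} [GrpObj B] (h : ∀ (T : Over SK) (f g : T ⟶ B), f = g) : H1Zero B :=
  fun _ _ _ _ _ _ _ _ _ _ b _ => ⟨1, fun _ => h _ _ _⟩

section Basic

variable {L E : Type u} [Field L] [Field E] [Algebra K L] [Algebra K E] [Algebra L E] [IsScalarTower K L E]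

/-- Functions on the spectrum of a field. -/
def γE (E : Type u) [Field E] [Algebra K E] : E ≃+* Γ((sp K E).left, ⊤) :=
  (Scheme.ΓSpecIso (CommRingCat.of E)).symm.commRingCatIsoToRingEquiv

theorem gal_appTop (σ : E ≃ₐ[L] E) (x : E) :
    (gal K σ).left.appTop (γE (K := K) E x) = γE (K := K) E (σ x) :=
  (congr($(Scheme.ΓSpecIso_inv_naturality (CommRingCat.ofHom (σ : E →+* E))) x)).symm

end Basic

/-- Additive Hilbert 90. -/
theorem h1Zero_ga : H1Zero (Red.Ga SK) := by
  intro L E _ _ _ _ _ _ _ _ b hb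
  classical
  let f : (E ≃ₐ[L] E) → E := fun σ => (γE (K := K) E).symm (Red.gaFn (b σ))
  have hf : ∀ σ τ, f (σ * τ) = σ (f τ) + f σ := fun σ τ => by
    refine (γE (K := K) E).injective ?_
    simp only [f, map_add, RingEquiv.apply_symm_apply]
    rw [← gal_appTop σ, RingEquiv.apply_symm_apply, hb, GaPts.gaFn_mul, GaPts.gaFn_comp]
  obtain ⟨θ, hθ⟩ := Algebra.trace_surjective L E 1
  have hθ' : ∑ σ : E ≃ₐ[L] E, σ θ = 1 := by rw [← trace_eq_sum_automorphisms, hθ, map_one]
  let x : E := ∑ τ : E ≃ₐ[L] E, f τ * τ θ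
  refine ⟨GaPts.ptOf (γE (K := K) E x), fun σ => GaPts.gaFn_injective ?_⟩
  show Red.gaFn _ = Red.gaFn _
  rw [GaPts.gaFn_mul, GaPts.gaFn_comp, GaPts.gaFn_ptOf, gal_appTop σ,
    ← (γE (K := K) E).apply_symm_apply (Red.gaFn (b σ)), ← map_add]
  congr 1
  show σ x + f σ = x
  calc σ x + f σ = ∑ τ, (σ (f τ) * (σ * τ) θ + f σ * (σ * τ) θ) := by
        rw [Finset.sum_add_distrib, ← Finset.mul_sum,
          Fintype.sum_equiv (Equiv.mulLeft σ) (fun τ => (σ * τ) θ) (fun τ => τ θ) (fun _ => rfl), hθ', _root_.mul_one,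
          map_sum]
        simp [AlgEquiv.mul_apply]
    _ = ∑ τ, f (σ * τ) * (σ * τ) θ := Finset.sum_congr rfl fun τ _ => by rw [hf, add_mul]
    _ = x := Fintype.sum_equiv (Equiv.mulLeft σ) _ (fun τ => f τ * τ θ) fun _ => rfl

/-- Multiplicative Hilbert 90. -/
theorem exists_units_split {L E : Type u} [Field L] [Field E] [Algebra L E] [FiniteDimensional L E]
    (f : (E ≃ₐ[L] E) → Eˣ) (hf : ∀ σ τ, (f (σ * τ) : E) = σ (f τ : E) * (f σ : E)) :
    ∃ c : Eˣ, ∀ σ : E ≃ₐ[L] E, σ (c : E) * (f σ : E) = (c : E) := by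
  obtain ⟨β, hβ⟩ := groupCohomology.isMulCoboundary₁_of_isMulCocycle₁_of_aut_to_units f fun σ τ =>
    Units.ext (hf σ τ)
  refine ⟨β⁻¹, fun σ => ?_⟩
  have h : σ (β : E) / (β : E) = (f σ : E) := by rw [← hβ σ, Units.val_div_eq_div_val]; rfl
  rw [← h, Units.val_inv_eq_inv_val, map_inv₀, ← mul_div_assoc,
    inv_mul_cancel₀ ((map_ne_zero σ).2 β.ne_zero), one_div]

theorem h1Zero_gm : H1Zero (Red.Gm SK) := by
  intro L E _ _ _ _ _ _ _ _ b hb
  let f : (E ≃ₐ[L] E) → Eˣ := fun σ =>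
    Units.map ((γE (K := K) E).symm : _ →* E) (GmPts.unitOfPt (b σ))
  have hf : ∀ σ τ, (f (σ * τ) : E) = σ (f τ : E) * (f σ : E) := fun σ τ => by
    refine (γE (K := K) E).injective ?_
    rw [map_mul, ← gal_appTop σ]
    show γE E ((γE (K := K) E).symm (Red.gmFn (b (σ * τ)))) =
      (gal K σ).left.appTop (γE E ((γE (K := K) E).symm (Red.gmFn (b τ)))) *
        γE E ((γE (K := K) E).symm (Red.gmFn (b σ)))
    simp only [RingEquiv.apply_symm_apply]
    rw [hb, GmPts.gmFn_mul, GmPts.gmFn_comp]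
  obtain ⟨c, hc⟩ := exists_units_split f hf
  refine ⟨GmPts.ptOfUnit (Units.map ((γE (K := K) E) : E →* _) c), fun σ => GmPts.gmFn_injective ?_⟩
  show Red.gmFn _ = Red.gmFn _
  rw [GmPts.gmFn_mul, GmPts.gmFn_comp, GmPts.gmFn_ptOfUnit]
  show (gal K σ).left.appTop (γE E (c : E)) * Red.gmFn (b σ) = γE E (c : E)
  rw [gal_appTop, ← (γE (K := K) E).apply_symm_apply (Red.gmFn (b σ)), ← map_mul]
  exact congrArg _ (hc σ)

section Laurent

variable (r : ℕ)

local notation "Lau" => MonoidAlgebra K (Multiplicative (Fin r → ℤ))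

/-- Coordinates of a point of a split torus. -/
def coord {E : Type u} [Field E] [Algebra K E] (φ : Lau →ₐ[K] E) (i : Fin r) : Eˣ :=
  ((φ : Lau →* E).comp (MonoidAlgebra.of K (Multiplicative (Fin r → ℤ)))).toHomUnits
    (Multiplicative.ofAdd (Pi.single i 1))

theorem coord_ext {E : Type u} [Field E] [Algebra K E] (φ ψ : Lau →ₐ[K] E) (h : ∀ i, coord r φ i = coord r ψ i) :
    φ = ψ := by
  refine MonoidAlgebra.algHom_ext (fun v => ?_) (Subsingleton.elim _ _)
  let uφ := ((φ : Lau →* E).comp (MonoidAlgebra.of K (Multiplicative (Fin r → ℤ)))).toHomUnits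
  let uψ := ((ψ : Lau →* E).comp (MonoidAlgebra.of K (Multiplicative (Fin r → ℤ)))).toHomUnits
  have : uφ v = uψ v := by
    rw [← ofAdd_toAdd v, ← Finset.univ_sum_single v.toAdd, ofAdd_sum, map_prod, map_prod]
    refine Finset.prod_congr rfl fun i _ => ?_
    rw [show Pi.single i (v.toAdd i) = v.toAdd i • (Pi.single i (1 : ℤ) : Fin r → ℤ) by
      rw [← Pi.single_smul, smul_eq_mul, _root_.mul_one], ofAdd_zsmul, map_zpow, map_zpow]
    exact congrArg (· ^ v.toAdd i) (h i)
  exact congrArg Units.val this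

theorem h1Zero_laurent : H1Zero (sp K Lau) := by
  intro L E _ _ _ _ _ _ _ _ b hb
  choose φ hφ using fun σ => DiagRep.exists_pt (b σ)
  have hm : ∀ σ τ i, (coord r (φ (σ * τ)) i : E) = σ (coord r (φ τ) i : E) * (coord r (φ σ) i : E) := by
    intro σ τ i
    have h := hb σ τ
    rw [hφ, hφ τ, hφ σ, gal, ← pt_comp, DiagRep.pt_mul_conv] at h
    rw [pt_injective h]
    simp [coord, AlgHom.convMul_apply]
  choose c hc using fun i => exists_units_split (fun σ => coord r (φ σ) i) fun σ τ => hm σ τ i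
  let χ : Multiplicative (Fin r → ℤ) →* E :=
    { toFun := fun m => ((∏ i, c i ^ m.toAdd i : Eˣ) : E)
      map_one' := by simp
      map_mul' := fun m n => by simp [zpow_add, Finset.prod_mul_distrib] }
  let ψ : Lau →ₐ[K] E := MonoidAlgebra.lift K E _ χ
  have hψ : ∀ i, (coord r ψ i : E) = c i := fun i => by
    simp [coord, ψ, χ, Pi.single_apply, pow_ite, Finset.prod_ite_eq']
  refine ⟨pt ψ, fun σ => ?_⟩
  rw [hφ, gal, ← pt_comp, DiagRep.pt_mul_conv]
  refine congrArg pt (coord_ext r _ _ fun i => Units.ext ?_)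
  rw [hψ, ← hc i σ, ← hψ]
  simp [coord, AlgHom.convMul_apply]

end Laurent

/-- Free and transitive action of `B` along the fibres of `q`: a Galois point gives a rational point. -/
theorem exists_point_of_galois {B X Z : Over SK} [GrpObj B] (hB : H1Zero B) (act : B ⊗ X ⟶ X) (q : X ⟶ Z)
    (hmul : ∀ (T : Over SK) (a b : T ⟶ B) (x : T ⟶ X),
      lift (a * b) x ≫ act = lift a (lift b x ≫ act) ≫ act)
    (hq : ∀ (T : Over SK) (b : T ⟶ B) (x : T ⟶ X), lift b x ≫ act ≫ q = x ≫ q)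
    (hfree : ∀ (T : Over SK) (x y : T ⟶ X), x ≫ q = y ≫ q → ∃! b : T ⟶ B, lift b x ≫ act = y)
    {L E : Type u} [Field L] [Field E] [Algebra K L] [Algebra K E] [Algebra L E] [IsScalarTower K L E]
    [FiniteDimensional L E] [IsGalois L E] (z : sp K L ⟶ Z) (x : sp K E ⟶ X) (hx : x ≫ q = proj K L E ≫ z) :
    ∃ y : sp K L ⟶ X, y ≫ q = z := by
  have hσ : ∀ σ : E ≃ₐ[L] E, x ≫ q = (gal K σ ≫ x) ≫ q := fun σ => by
    rw [Category.assoc, hx, ← Category.assoc, gal_proj]
  choose b hb hbu using fun σ => hfree _ x (gal K σ ≫ x) (hσ σ)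
  obtain ⟨c, hc⟩ := hB L E b fun σ τ => by
    refine (hbu (σ * τ) _ ?_).symm
    show lift ((gal K σ ≫ b τ) * b σ) x ≫ act = gal K (σ * τ) ≫ x
    rw [hmul, hb, gal_mul, Category.assoc, ← hb τ, ← Category.assoc, comp_lift]
  obtain ⟨y, hy⟩ := exists_descend K (lift c x ≫ act) fun σ => by
    conv_rhs => rw [← hc σ, hmul, hb]
    rw [← Category.assoc, comp_lift]
  refine ⟨y, proj_cancel (E := E) K _ _ ?_⟩
  rw [← Category.assoc, hy, Category.assoc, hq, hx]

/-- Free and transitive action of `B` along the fibres of a smooth `q`: non-empty fibres have rational points. -/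
theorem exists_point {B X Z : Over SK} [GrpObj B] (hB : H1Zero B) (act : B ⊗ X ⟶ X) (q : X ⟶ Z)
    [Smooth q.left]
    (hmul : ∀ (T : Over SK) (a b : T ⟶ B) (x : T ⟶ X),
      lift (a * b) x ≫ act = lift a (lift b x ≫ act) ≫ act)
    (hq : ∀ (T : Over SK) (b : T ⟶ B) (x : T ⟶ X), lift b x ≫ act ≫ q = x ≫ q)
    (hfree : ∀ (T : Over SK) (x y : T ⟶ X), x ≫ q = y ≫ q → ∃! b : T ⟶ B, lift b x ≫ act = y)
    {L : Type u} [Field L] [Algebra K L] (z : sp K L ⟶ Z) (hne : Nonempty (pullback q.left z.left : Scheme.{u})) :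
    ∃ y : sp K L ⟶ X, y ≫ q = z := by
  obtain ⟨L', _, _, p, hfin, hsep, hp⟩ := ChevThmLib.exists_sep_point q.left z.left hne
  haveI := hfin; haveI := hsep
  let Ω := SeparableClosure L
  let j : L' →ₐ[L] Ω := IsSepClosed.lift
  let E := IntermediateField.normalClosure L L' Ω
  let emb : L' →ₐ[L] E := j.codRestrict E.toSubalgebra fun a => AlgHom.fieldRange_le_normalClosure j ⟨a, rfl⟩
  letI : Algebra K E := ((algebraMap L E).comp (algebraMap K L)).toAlgebra
  haveI : IsScalarTower K L E := IsScalarTower.of_algebraMap_eq fun _ => rfl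
  let x₀ : (sp K E).left ⟶ X.left := Spec.map (CommRingCat.ofHom (emb : L' →+* E)) ≫ p
  have hx₀ : x₀ ≫ q.left = (proj K L E ≫ z).left := by
    show (Spec.map _ ≫ p) ≫ q.left = Spec.map (CommRingCat.ofHom (algebraMap L E)) ≫ z.left
    rw [Category.assoc, hp, ← Category.assoc, ← Spec.map_comp]
    exact congrArg (fun f => Spec.map f ≫ z.left) (CommRingCat.hom_ext emb.comp_algebraMap)
  refine exists_point_of_galois hB act q hmul hq hfree z (E := E) (Over.homMk x₀ ?_) (Over.OverMorphism.ext hx₀)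
  rw [← Over.w q, ← Category.assoc, hx₀]
  exact Over.w (proj K L E ≫ z)

/-- The middle term of an exact sequence. -/
theorem H1Zero.ext {N B Q : Over SK} [GrpObj N] [GrpObj B] [GrpObj Q] (hN : H1Zero N) (hQ : H1Zero Q)
    (i : N ⟶ B) [IsMonHom i] (q : B ⟶ Q) [IsMonHom q] [Surjective q.left] [Smooth q.left]
    (hker : AlgGrp.IsKernel i q) : H1Zero B := by
  have hlift : ∀ (T : Over SK) (g : T ⟶ B), g ≫ q = 1 → ∃! n : T ⟶ N, n ≫ i = g := fun T g h =>
    ⟨hker.lift g (toUnit T) (by rw [h, Hom.one_def]), hker.lift_fst _ _ _,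
      fun n hn => hker.hom_ext (by rw [hker.lift_fst, hn]) (toUnit_unique _ _)⟩
  have hiq : ∀ (T : Over SK) (n : T ⟶ N), (n ≫ i) ≫ q = 1 := fun T n => by
    rw [Category.assoc, hker.w, ← Category.assoc, toUnit_unique (n ≫ toUnit N) (toUnit T), Hom.one_def]
  intro L E _ _ _ _ _ _ _ _ b hb
  obtain ⟨c₀, hc₀⟩ := hQ L E (fun σ => b σ ≫ q) fun σ τ => by rw [hb, MonObj.mul_comp, Category.assoc]
  let act : N ⊗ B ⟶ B := (fst N B ≫ i) * snd N B
  have hact : ∀ (T : Over SK) (n : T ⟶ N) (x : T ⟶ B), lift n x ≫ act = (n ≫ i) * x := fun T n x => by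
    simp only [act, MonObj.comp_mul, lift_fst_assoc, lift_snd]
  have hne : Nonempty (pullback q.left c₀.left : Scheme.{u}) := by
    obtain ⟨w, hw⟩ := q.left.surjective (c₀.left (IsLocalRing.closedPoint E))
    exact ⟨(Scheme.Pullback.exists_preimage_pullback w (IsLocalRing.closedPoint E) hw).choose⟩
  obtain ⟨c, hc⟩ := exists_point hN act q (fun T a a' x => by rw [hact, hact, hact, MonObj.mul_comp, _root_.mul_assoc])
    (fun T n x => by rw [← Category.assoc, hact, MonObj.mul_comp, hiq, _root_.one_mul])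
    (fun T x y h => by
      obtain ⟨n, hn, hu⟩ := hlift T (y * x⁻¹) (by rw [MonObj.mul_comp, GrpObj.inv_comp, h, mul_inv_cancel])
      refine ⟨n, by show lift n x ≫ act = y; rw [hact, hn, inv_mul_cancel_right], fun m hm => hu m ?_⟩
      rw [← (hact T m x).symm.trans hm, mul_inv_cancel_right]) c₀ hne
  choose n hn hnu using fun σ => hlift _ ((gal K σ ≫ c) * b σ * c⁻¹) (by
    rw [MonObj.mul_comp, MonObj.mul_comp, GrpObj.inv_comp, Category.assoc, hc, hc₀, mul_inv_cancel])
  obtain ⟨d, hd⟩ := hN L E n fun σ τ => by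
    refine (hnu (σ * τ) _ ?_).symm
    show ((gal K σ ≫ n τ) * n σ) ≫ i = _
    rw [MonObj.mul_comp, Category.assoc, hn, hn, gal_mul, hb, Category.assoc, MonObj.comp_mul, MonObj.comp_mul,
      GrpObj.comp_inv]
    group
  refine ⟨(d ≫ i) * c, fun σ => ?_⟩
  have h := congrArg (· ≫ i) (hd σ)
  simp only [MonObj.mul_comp, Category.assoc, hn] at h
  conv_rhs => rw [← h]
  rw [MonObj.comp_mul]
  group

end Unir
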