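import Groth.Agent.UnirLib.Solvable

/-!
Solvable connected affine groups over an algebraically closed field are rational varieties.
-/

set_option autoImplicit false
set_option linter.style.haveILetI false
set_option backward.isDefEq.respectTransparency false
set_option maxHeartbeats 1000000

noncomputable section

universe u

open CategoryTheory CategoryTheory.Limits MonoidalCategory CartesianMonoidalCategory MonObj AlgebraicGeometry
open TopologicalSpace WittGrp
open Groth.Agent
open AVAmpleLib (pt)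

attribute [-instance] CategoryTheory.Hom.commGroup

namespace Unir

variable {k : Type u} [Field k] [IsAlgClosed k]

local notation "SK" => Spec (CommRingCat.of k)
local notation "PT" => 𝟙_ (Over (Spec (CommRingCat.of k)))

/-- A nonempty open subscheme is isomorphic to an open subscheme of affine space. -/
def Rat (G : Over (Spec (CommRingCat.of k))) : Prop :=
  haveI : Fact (Nat.Prime 2) := ⟨Nat.prime_two⟩
  ∃ (n : ℕ) (V : Over (Spec (CommRingCat.of k))) (j : V ⟶ W 2 n (Spec (CommRingCat.of k))) (φ : V ⟶ G),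
    IsOpenImmersion j.left ∧ Nonempty ↥V.left ∧ IsOpenImmersion φ.left

omit [IsAlgClosed k] in
theorem isOpenImmersion_whiskerRight {A B : Over SK} (f : A ⟶ B) [IsOpenImmersion f.left] (Z : Over SK) :
    IsOpenImmersion (f ▷ Z).left :=
  MorphismProperty.of_isPullback (P := @IsOpenImmersion) ((WittExtLib.isPullback_whiskerRight f Z).flip) inferInstance

omit [IsAlgClosed k] in
theorem isOpenImmersion_tensorHom {A B A' B' : Over SK} (f : A ⟶ B) (g : A' ⟶ B') [IsOpenImmersion f.left]
    [IsOpenImmersion g.left] : IsOpenImmersion (f ⊗ₘ g).left := by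
  have hwl : B ◁ g = (β_ B A').hom ≫ g ▷ B ≫ (β_ B' B).hom := by
    rw [BraidedCategory.braiding_naturality_left, ← Category.assoc, SymmetricCategory.symmetry, Category.id_comp]
  haveI := isOpenImmersion_whiskerRight f A'
  haveI := isOpenImmersion_whiskerRight g B
  haveI : IsIso (β_ B A').hom.left := (Over.forget SK).map_isIso (β_ B A').hom
  haveI : IsIso (β_ B' B).hom.left := (Over.forget SK).map_isIso (β_ B' B).hom
  rw [MonoidalCategory.tensorHom_def, hwl, Over.comp_left, Over.comp_left, Over.comp_left]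
  infer_instance

omit [IsAlgClosed k] in
theorem Rat.map {X Y : Over SK} (h : Rat X) (f : X ⟶ Y) [IsOpenImmersion f.left] : Rat Y := by
  obtain ⟨n, V, j, φ, hj, hV, hφ⟩ := h
  haveI := hφ
  exact ⟨n, V, j, φ ≫ f, hj, hV, by rw [Over.comp_left]; infer_instance⟩

theorem Rat.tensor {X Y : Over SK} (hX : Rat X) (hY : Rat Y) : Rat (X ⊗ Y) := by
  haveI : Fact (Nat.Prime 2) := ⟨Nat.prime_two⟩
  obtain ⟨a, V, jV, φ, hjV, hVne, hφ⟩ := hX
  obtain ⟨b, V', jV', φ', hjV', hV'ne, hφ'⟩ := hY
  haveI := hjV; haveI := hφ; haveI := hjV'; haveI := hφ'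
  haveI : LocallyOfFiniteType V.hom := by rw [← Over.w jV]; infer_instance
  haveI : LocallyOfFiniteType V'.hom := by rw [← Over.w jV']; infer_instance
  obtain ⟨c⟩ := UnipStruct.exists_iso_tensor (p := 2) (Iso.refl (W 2 a SK)) (Iso.refl (W 2 b SK))
  haveI : IsIso c.inv.left := (Over.forget SK).map_isIso c.inv
  haveI := isOpenImmersion_tensorHom jV jV'
  obtain ⟨v, -⟩ := exists_pt_mem (X := V) isClosed_univ.isLocallyClosed Set.univ_nonempty
  obtain ⟨v', -⟩ := exists_pt_mem (X := V') isClosed_univ.isLocallyClosed Set.univ_nonempty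
  exact ⟨a + b, V ⊗ V', (jV ⊗ₘ jV') ≫ c.inv, φ ⊗ₘ φ', by rw [Over.comp_left]; infer_instance, ⟨pt (lift v v')⟩,
    isOpenImmersion_tensorHom φ φ'⟩

omit [IsAlgClosed k] in
/-- A nonempty open subscheme of an irreducible rational scheme is rational. -/
theorem Rat.open {X : Over SK} (h : Rat X) [IrreducibleSpace ↥X.left] (U : X.left.Opens)
    (hU : (U : Set X.left).Nonempty) : Rat (Over.mk (U.ι ≫ X.hom)) := by
  obtain ⟨n, V, j, φ, hj, hV, hφ⟩ := h
  haveI := hj; haveI := hφ
  let V' : Over SK := Over.mk ((φ.left ⁻¹ᵁ U).ι ≫ V.hom)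
  let ιV : V' ⟶ V := Over.homMk (φ.left ⁻¹ᵁ U).ι rfl
  let r : V' ⟶ Over.mk (U.ι ≫ X.hom) := Over.homMk (φ.left ∣_ U) (by
    show (φ.left ∣_ U) ≫ U.ι ≫ X.hom = (φ.left ⁻¹ᵁ U).ι ≫ V.hom
    rw [← Category.assoc, morphismRestrict_ι, Category.assoc, Over.w φ])
  haveI : IsOpenImmersion ιV.left := inferInstanceAs (IsOpenImmersion (φ.left ⁻¹ᵁ U).ι)
  haveI : IsOpenImmersion r.left := inferInstanceAs (IsOpenImmersion (φ.left ∣_ U))
  obtain ⟨y, ⟨v, rfl⟩, hy⟩ := nonempty_preirreducible_inter φ.left.isOpenEmbedding.isOpen_range U.isOpen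
    (Set.range_nonempty _) hU
  exact ⟨n, V', ιV ≫ j, r, by rw [Over.comp_left]; infer_instance, ⟨⟨v, hy⟩⟩, inferInstance⟩

theorem rat_comm (G : Over SK) [GrpObj G] [IsCommMonObj G] [Smooth G.hom] [ConnectedSpace ↥G.left] [IsAffine G.left] :
    Rat G := by
  haveI : Fact (Nat.Prime 2) := ⟨Nat.prime_two⟩
  obtain ⟨n, j, hj⟩ := AxisTriv.exists_openImmersion 2 G
  exact ⟨n, G, j, 𝟙 G, hj, inferInstance, inferInstanceAs (IsOpenImmersion (𝟙 G.left))⟩

section Ext

variable {N G Q : Over (Spec (CommRingCat.of k))} [GrpObj N] [GrpObj G] [GrpObj Q]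

/-- An extension with a rational section is birational to a product. -/
theorem rat_ext [IsIntegral Q.left] [LocallyOfFiniteType Q.hom] (hN : H1Zero N) (hNr : Rat N) (hQr : Rat Q)
    (i : N ⟶ G) [IsMonHom i] (p : G ⟶ Q) [IsMonHom p] [Smooth p.left] [Surjective p.left]
    (hker : AlgGrp.IsKernel i p) : Rat G := by
  obtain ⟨U, hU, s, hs⟩ := exists_section_ext hN i p hker
  let Uo : Over SK := Over.mk (U.ι ≫ Q.hom)
  let sG : Uo ⟶ G := Over.homMk s (by show s ≫ G.hom = U.ι ≫ Q.hom; rw [← hs, Category.assoc, Over.w p])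
  let ιU : Uo ⟶ Q := Over.homMk U.ι rfl
  have hsp : sG ≫ p = ιU := Over.OverMorphism.ext hs
  let m : Uo ⊗ N ⟶ G := (fst Uo N ≫ sG) * (snd Uo N ≫ i)
  haveI : Mono ιU := Over.mono_of_mono_left ιU
  have hkill : ∀ (T : Over SK) (d : T ⟶ N), (d ≫ i) ≫ p = 1 := fun T d => by
    rw [Category.assoc, hker.w, ← Category.assoc, toUnit_unique (d ≫ toUnit _) (toUnit _), Hom.one_def]
  have sq : IsPullback m (fst Uo N) p ιU := by
    refine IsPullback.of_isLimit' ⟨by
      rw [MonObj.mul_comp, hkill, _root_.mul_one, Category.assoc, hsp]⟩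
      (Limits.PullbackCone.IsLimit.mk _ (fun c => lift c.snd (hker.lift ((c.snd ≫ sG)⁻¹ * c.fst) (toUnit _) (by
        rw [MonObj.mul_comp, GrpObj.inv_comp, Category.assoc, hsp, c.condition, inv_mul_cancel, Hom.one_def])))
      (fun c => ?_) (fun c => ?_) (fun c l hl₁ hl₂ => ?_))
    · simp only [m, MonObj.comp_mul, lift_fst_assoc, lift_snd_assoc, hker.lift_fst, mul_inv_cancel_left]
    · simp
    · refine CartesianMonoidalCategory.hom_ext _ _ (by simpa using hl₂) ?_
      rw [lift_snd]
      refine hker.hom_ext ?_ (toUnit_unique _ _)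
      rw [hker.lift_fst, ← hl₁, ← hl₂]
      simp [m, MonObj.comp_mul]
  haveI : IsOpenImmersion m.left := MorphismProperty.of_isPullback (P := @IsOpenImmersion)
    (sq.map (Over.forget _)).flip (inferInstanceAs (IsOpenImmersion U.ι))
  exact ((hQr.open U hU).tensor hNr).map m

end Ext

theorem rat_solvable (n : ℕ) : ∀ (G : Over SK) [GrpObj G] [Smooth G.hom] [IsAffine G.left]
    [ConnectedSpace ↥G.left], derivedSeries (PT ⟶ G) n = ⊥ → Rat G := by
  induction n with
  | zero =>
    intro G _ _ _ _ h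
    rw [derivedSeries_zero] at h
    have h0 : ∀ a : PT ⟶ G, a = 1 := fun a => Subgroup.mem_bot.1 (h ▸ Subgroup.mem_top a)
    haveI := isCommMonObj_of_pts G fun a b => by rw [h0 a, h0 b]
    exact rat_comm G
  | succ n ih =>
    intro G _ _ _ _ h
    haveI : QuasiCompact G.hom := inferInstance
    haveI : IsSeparated G.hom := inferInstance
    obtain ⟨D, _, i, hi, hic, hDs, hDc, ⟨c, hc⟩, hr⟩ := BorelFix.exists_derived G
    haveI := hi; haveI := hic; haveI := hDs; haveI := hDc
    haveI : IsAffine D.left := isAffine_of_isAffineHom i.left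
    haveI : Mono i := Over.mono_of_mono_left i
    haveI : Flat D.hom := inferInstance
    haveI : QuasiCompact i.left := inferInstance
    have hnorm : AlgGrp.IsNormalHom i := fun T g d => by
      refine ⟨(lift g (d ≫ i) ≫ c) * d, ?_⟩
      rw [MonObj.mul_comp, Category.assoc, hc]
      simp only [BorelFix.comm, MonObj.comp_mul, GrpObj.comp_inv, Category.comp_id, lift_fst, lift_snd]
      group
    obtain ⟨Q, _, p, hpm, hpf, hps, hpl, hker, hQsep, -, hQsm⟩ := Groth.Agent.S3030.result k D G i hnorm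
    haveI := hpm; haveI := hpf; haveI := hps; haveI := hpl; haveI := hQsep; haveI := hQsm inferInstance
    haveI : IsAffine Q.left := AntiAffLib.isAffine_of_surjective_hom p
    haveI : ConnectedSpace ↥Q.left := p.left.surjective.connectedSpace p.left.continuous
    haveI hQc : IsCommMonObj Q := isCommMonObj_of_pts Q fun a b => by
      obtain ⟨a', rfl⟩ := AVAmpleLib.exists_pt_lift p a
      obtain ⟨b', rfl⟩ := AVAmpleLib.exists_pt_lift p b
      have e : (lift a' b' ≫ c) ≫ i = a' * b' * a'⁻¹ * b'⁻¹ := by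
        rw [Category.assoc, hc]
        simp only [BorelFix.comm, MonObj.comp_mul, GrpObj.comp_inv, Category.comp_id, lift_fst, lift_snd]
      have e' := congrArg (· ≫ p) e
      simp only [MonObj.mul_comp, GrpObj.inv_comp] at e'
      rw [Category.assoc, hker.w, ← Category.assoc, toUnit_unique ((lift a' b' ≫ c) ≫ toUnit D) (toUnit _),
        ← Hom.one_def, eq_comm, mul_inv_eq_one, mul_inv_eq_iff_eq_mul] at e'
      exact e'
    haveI : Smooth p.left := SemiAbLib.smooth_of_kernel i p hker
    let f : (PT ⟶ D) →* (PT ⟶ G) := MonoidHom.mk' (fun d => d ≫ i) fun a b => MonObj.mul_comp a b i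
    have hf : ∀ x, f x ∈ commutator (PT ⟶ G) := fun x => by
      have hx : f x ∈ Set.range (fun d : PT ⟶ D => d ≫ i) := ⟨x, rfl⟩
      rwa [hr] at hx
    have hD : derivedSeries (PT ⟶ D) n = ⊥ := by
      have h1 := BorelFix.derivedSeries_le f hf n
      rw [h, le_bot_iff, Subgroup.map_eq_bot_iff_of_injective _ fun a b e => (cancel_mono i).1 e] at h1
      exact h1
    haveI := AlbLib.geometricallyIntegral_grp Q
    haveI : IsIntegral Q.left := GeometricallyIntegral.isIntegral_of_subsingleton Q.hom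
    exact rat_ext (solvable_main n D hD).1 (ih D hD) (rat_comm Q) i p hker

end Unir
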